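import Cfsg.Agent.H47.XPoly
import Cfsg.Prelude.Def_LieTwisted

/-!
The natural 8-dimensional module of D₄ in characteristic 2, inside the tensor square: tables and
the intertwining checks.
-/

set_option autoImplicit false

namespace Cfsg.Agent.H57.D4Nat

open Cfsg.Lie Cfsg.Agent.H47

/-- The intertwiner from the adjoint module to the tensor square of the natural module. -/
def interList : SPoly :=
  [((1, 27, 0), 1),
   ((2, 26, 0), 1),
   ((3, 24, 0), 1),
   ((4, 25, 0), 1),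
   ((5, 23, 0), 1),
   ((6, 22, 0), 1),
   ((7, 0, 0), 1),
   ((8, 27, 0), 1),
   ((10, 21, 0), 1),
   ((11, 19, 0), 1),
   ((12, 20, 0), 1),
   ((13, 18, 0), 1),
   ((14, 0, 0), 1),
   ((14, 1, 0), 1),
   ((15, 9, 0), 1),
   ((16, 26, 0), 1),
   ((17, 21, 0), 1),
   ((19, 16, 0), 1),
   ((20, 17, 0), 1),
   ((21, 1, 0), 1),
   ((21, 2, 0), 1),
   ((21, 3, 0), 1),
   ((22, 13, 0), 1),
   ((23, 8, 0), 1),
   ((24, 24, 0), 1),
   ((25, 19, 0), 1),
   ((26, 16, 0), 1),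
   ((28, 2, 0), 1),
   ((28, 3, 0), 1),
   ((29, 14, 0), 1),
   ((30, 11, 0), 1),
   ((31, 6, 0), 1),
   ((32, 25, 0), 1),
   ((33, 20, 0), 1),
   ((34, 17, 0), 1),
   ((35, 2, 0), 1),
   ((35, 3, 0), 1),
   ((37, 15, 0), 1),
   ((38, 12, 0), 1),
   ((39, 7, 0), 1),
   ((40, 23, 0), 1),
   ((41, 18, 0), 1),
   ((42, 1, 0), 1),
   ((42, 2, 0), 1),
   ((42, 3, 0), 1),
   ((43, 14, 0), 1),
   ((44, 15, 0), 1),
   ((46, 10, 0), 1),
   ((47, 5, 0), 1),
   ((48, 22, 0), 1),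
   ((49, 0, 0), 1),
   ((49, 1, 0), 1),
   ((50, 13, 0), 1),
   ((51, 11, 0), 1),
   ((52, 12, 0), 1),
   ((53, 10, 0), 1),
   ((55, 4, 0), 1),
   ((56, 0, 0), 1),
   ((57, 9, 0), 1),
   ((58, 8, 0), 1),
   ((59, 6, 0), 1),
   ((60, 7, 0), 1),
   ((61, 5, 0), 1),
   ((62, 4, 0), 1)]

/-- The two off-diagonal positions of a natural root element. -/
def natPos (r : ℕ) : List (ℕ × ℕ) :=
  [[(7, 1), (6, 0)],
   [(7, 2), (5, 0)],
   [(7, 4), (3, 0)],
   [(7, 3), (4, 0)],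
   [(7, 5), (2, 0)],
   [(7, 6), (1, 0)],
   [(6, 2), (5, 1)],
   [(6, 4), (3, 1)],
   [(6, 3), (4, 1)],
   [(6, 5), (2, 1)],
   [(5, 4), (3, 2)],
   [(5, 3), (4, 2)],
   [(2, 4), (3, 5)],
   [(2, 3), (4, 5)],
   [(1, 2), (5, 6)],
   [(1, 4), (3, 6)],
   [(1, 3), (4, 6)],
   [(1, 5), (2, 6)],
   [(0, 1), (6, 7)],
   [(0, 2), (5, 7)],
   [(0, 4), (3, 7)],
   [(0, 3), (4, 7)],
   [(0, 5), (2, 7)],
   [(0, 6), (1, 7)]].getD r []

/-- The sparse natural root element. -/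
def natSP (r : ℕ) : SPoly :=
  SPoly.one 8 ++ (natPos r).map fun e => ((e.1, e.2, 1), 1)

/-- Its tensor square. -/
def kronSP (r : ℕ) : SPoly :=
  (natSP r).flatMap fun x => (natSP r).map fun y =>
    ((8 * x.1.1 + y.1.1, 8 * x.1.2.1 + y.1.2.1, x.1.2.2 + y.1.2.2), x.2 * y.2)

/-- The roots used by the generators of ³D₄. -/
def usedRoots : List ℕ := [18, 14, 13, 12, 5, 9, 10, 11]

theorem inter_check : usedRoots.all (fun r =>
    SPoly.eqMod 2 (SPoly.mul interList (xSP chevD4 r)) (SPoly.mul (kronSP r) interList)) = true := by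
  decide +kernel

theorem inRange_check : (interList.all fun e => decide (e.1.1 < 64) && decide (e.1.2.1 < 28)) &&
    usedRoots.all (fun r => (xSP chevD4 r).all (fun e => decide (e.1.1 < 28) && decide (e.1.2.1 < 28)) &&
      decide (chevD4.negIdx.getD r 0 ≠ r) && decide (r < chevD4.nroots) &&
      (natSP r).all fun e => decide (e.1.1 < 8) && decide (e.1.2.1 < 8)) = true := by
  decide +kernel

/-- The columns used for injectivity: for each unordered non-opposite pair, a root. -/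
def pairCol (i j : ℕ) : ℕ :=
  [0,27,26,24,25,23,22,0,27,0,21,19,20,18,0,9,26,21,0,16,17,0,13,8,24,19,16,0,0,14,11,6,25,20,17,0,0,15,12,7,23,18,0,14,15,0,10,5,22,0,13,11,12,10,0,4,0,9,8,6,7,5,4,0].getD (8 * i + j) 0

theorem pairCol_check : ((List.range 8).all fun i => (List.range 8).all fun j =>
    decide (i = j ∨ i + j = 7) ||
      (decide (pairCol i j < 28) && (List.range 64).all fun z =>
        decide ((((interList.filter fun e => decide (e.1.2.1 = pairCol i j) && decide (e.1.1 = z)).map Prod.snd).sum)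
          = if z = 8 * i + j ∨ z = 8 * j + i then 1 else 0))) = true := by
  decide +kernel

end Cfsg.Agent.H57.D4Nat
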